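import Groth.Agent.Lib.Rigid19.AntiAffine
import Groth.Agent.Lib.RigidRel.AbSch
import Groth.Agent.Lib.AbRigid.Hom
import Groth.Agent.Lib.AbRigid.Connected
import Groth.Agent.Lib.AbRigid.SmoothGI
import Mathlib.AlgebraicGeometry.Group.Abelian

/-!
# Automorphisms of a constant family of abelian varieties
-/

set_option autoImplicit false
set_option linter.style.haveILetI false
set_option backward.isDefEq.respectTransparency false

universe u

open CategoryTheory CategoryTheory.Limits MonoidalCategory CartesianMonoidalCategory MonObj AlgebraicGeometry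
open scoped GrpObj

namespace Groth.Agent.AVAut25

variable {k : Type u} [Field k] {A S : Over (Spec (CommRingCat.of k))} [GrpObj A]

/-- A family of morphisms fixing the unit is constant. -/
theorem eq_fst_comp [IsProper A.hom] [GeometricallyIntegral A.hom] [LocallyOfFiniteType S.hom]
    [ConnectedSpace S.left] (s₀ : 𝟙_ (Over (Spec (CommRingCat.of k))) ⟶ S) (φ : A ⊗ S ⟶ A)
    (hφ : lift (toUnit S ≫ η[A]) (𝟙 S) ≫ φ = 1) :
    φ = fst A S ≫ lift (𝟙 A) (toUnit A ≫ s₀) ≫ φ := by
  haveI : GeometricallyIrreducible A.hom := inferInstance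
  haveI : GeometricallyConnected A.hom := by
    refine ⟨fun K' _ y W p₁ p₂ hW => ?_⟩
    haveI : AlgebraicGeometry.IsIntegral W := GeometricallyIntegral.geometrically_isIntegral (f := A.hom) y p₁ p₂ hW
    exact (inferInstance : ConnectedSpace W)
  have hsurj : Function.Surjective A.hom.appTop.hom :=
    (RigidRel.h0_of_geometrically A.hom ⊤ (isAffineOpen_top _)).2
  haveI : IsLocallyNoetherian S.left := LocallyOfFiniteType.isLocallyNoetherian S.hom
  let h := lift (𝟙 A) (toUnit A ≫ s₀) ≫ φ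
  have hh : η[A] ≫ h = 1 := by
    have e : η[A] ≫ lift (𝟙 A) (toUnit A ≫ s₀) = s₀ ≫ lift (toUnit S ≫ η[A]) (𝟙 S) := by
      ext1
      · rw [Category.assoc, Category.assoc, lift_fst, lift_fst, Category.comp_id, ← Category.assoc,
          toUnit_unique (s₀ ≫ toUnit S) (𝟙 _), Category.id_comp]
      · rw [Category.assoc, Category.assoc, lift_snd, lift_snd, Category.comp_id, ← Category.assoc,
          toUnit_unique (η[A] ≫ toUnit A) (𝟙 _), Category.id_comp]
    rw [← Category.assoc, e, Category.assoc, hφ, MonObj.comp_one]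
  have key : φ * (fst A S ≫ h)⁻¹ = 1 := by
    refine Rigid19.eq_one_of_slices hsurj η[A] s₀ _ ?_ ?_
    · have e1 : A ◁ s₀ = fst A _ ≫ lift (𝟙 A) (toUnit A ≫ s₀) := by
        ext1
        · rw [whiskerLeft_fst, Category.assoc, lift_fst, Category.comp_id]
        · rw [whiskerLeft_snd, Category.assoc, lift_snd, ← Category.assoc,
            toUnit_unique (fst A (𝟙_ _) ≫ toUnit A) (snd A (𝟙_ _))]
      rw [MonObj.comp_mul, GrpObj.comp_inv, ← Category.assoc (A ◁ s₀) (fst A S), whiskerLeft_fst, e1,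
        Category.assoc, mul_inv_cancel]
    · rw [MonObj.comp_mul, GrpObj.comp_inv, hφ, ← Category.assoc _ (fst A S), lift_fst, Category.assoc, hh,
        MonObj.comp_one, inv_one, _root_.mul_one]
  exact mul_inv_eq_one.1 key

/-- An automorphism of a constant family of abelian varieties is a translation and a group automorphism. -/
theorem exists_decomp [IsAlgClosed k] [IsProper A.hom] [GeometricallyIntegral A.hom]
    [LocallyOfFiniteType S.hom] [ConnectedSpace S.left] (f : A ⊗ S ≅ A ⊗ S) (hf : f.hom ≫ snd A S = snd A S) :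
    ∃ (g : S ⟶ A) (h : A ⟶ A), IsMonHom h ∧ IsIso h ∧
      f.hom ≫ fst A S = (snd A S ≫ g) * (fst A S ≫ h) ∧
      ∀ (g' : S ⟶ A) (h' : A ⟶ A), IsMonHom h' →
        f.hom ≫ fst A S = (snd A S ≫ g') * (fst A S ≫ h') → g' = g ∧ h' = h := by
  haveI := isCommMonObj_of_isProper_of_geometricallyIntegral A
  obtain ⟨s₀⟩ := Rigid19.exists_point (X := S)
  let o : S ⟶ A ⊗ S := lift (toUnit S ≫ η[A]) (𝟙 S)
  let j : A ⟶ A ⊗ S := lift (𝟙 A) (toUnit A ≫ s₀)
  let g : S ⟶ A := o ≫ f.hom ≫ fst A S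
  let φ : A ⊗ S ⟶ A := (f.hom ≫ fst A S) * (snd A S ≫ g)⁻¹
  have ho : o ≫ snd A S = 𝟙 S := lift_snd _ _
  have hφ : o ≫ φ = 1 := by
    rw [MonObj.comp_mul, GrpObj.comp_inv, ← Category.assoc o (snd A S), ho, Category.id_comp, mul_inv_cancel]
  have hd := eq_fst_comp s₀ φ hφ
  let h : A ⟶ A := j ≫ φ
  have heq : f.hom ≫ fst A S = (snd A S ≫ g) * (fst A S ≫ h) := by
    show _ = (snd A S ≫ g) * (fst A S ≫ j ≫ φ)
    rw [← hd, _root_.mul_comm]
    show _ = f.hom ≫ fst A S * (snd A S ≫ g)⁻¹ * (snd A S ≫ g)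
    rw [_root_.inv_mul_cancel_right]
  have hη : η[A] ≫ h = η[A] := by
    have e : η[A] ≫ j = s₀ ≫ o := by
      ext1
      · rw [Category.assoc, Category.assoc, lift_fst, lift_fst, Category.comp_id, ← Category.assoc,
          toUnit_unique (s₀ ≫ toUnit S) (𝟙 _), Category.id_comp]
      · rw [Category.assoc, Category.assoc, lift_snd, lift_snd, Category.comp_id, ← Category.assoc,
          toUnit_unique (η[A] ≫ toUnit A) (𝟙 _), Category.id_comp]
    show η[A] ≫ j ≫ φ = _
    rw [← Category.assoc, e, Category.assoc, hφ, MonObj.comp_one, MonObj.one_eq_one]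
  have hmon : IsMonHom h := AbRigid.isMonHom_of_one A A h hη
  have hinv : f.inv ≫ snd A S = snd A S := by rw [Iso.inv_comp_eq, hf]
  -- the fibre over `s₀`
  have hjf : j ≫ f.hom ≫ snd A S = toUnit A ≫ s₀ := by rw [hf, lift_snd]
  have hji : j ≫ f.inv ≫ snd A S = toUnit A ≫ s₀ := by rw [hinv, lift_snd]
  let m : A ⟶ A := j ≫ f.hom ≫ fst A S
  let n : A ⟶ A := j ≫ f.inv ≫ fst A S
  have hm : m ≫ j = j ≫ f.hom := by
    ext1
    · show (j ≫ f.hom ≫ fst A S) ≫ j ≫ fst A S = (j ≫ f.hom) ≫ fst A S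
      rw [lift_fst, Category.comp_id, Category.assoc]
    · show (j ≫ f.hom ≫ fst A S) ≫ j ≫ snd A S = (j ≫ f.hom) ≫ snd A S
      rw [lift_snd, Category.assoc j f.hom, hjf, ← Category.assoc, comp_toUnit]
  have hn : n ≫ j = j ≫ f.inv := by
    ext1
    · show (j ≫ f.inv ≫ fst A S) ≫ j ≫ fst A S = (j ≫ f.inv) ≫ fst A S
      rw [lift_fst, Category.comp_id, Category.assoc]
    · show (j ≫ f.inv ≫ fst A S) ≫ j ≫ snd A S = (j ≫ f.inv) ≫ snd A S
      rw [lift_snd, Category.assoc j f.inv, hji, ← Category.assoc, comp_toUnit]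
  let c : A ⟶ A := toUnit A ≫ s₀ ≫ g
  have hh : h = m * c⁻¹ := by
    show j ≫ φ = _
    rw [MonObj.comp_mul, GrpObj.comp_inv]
    congr 2
    rw [← Category.assoc, lift_snd, Category.assoc]
  have hc : ∀ u : A ⟶ A, u ≫ c = c := fun u => by rw [← Category.assoc, comp_toUnit]
  let t : A ⟶ A := 𝟙 A * c⁻¹
  let t' : A ⟶ A := 𝟙 A * c
  have hmn : m ≫ n = 𝟙 A := by
    show m ≫ j ≫ f.inv ≫ fst A S = _
    rw [← Category.assoc, hm, Category.assoc, Iso.hom_inv_id_assoc, lift_fst]
  have hnm : n ≫ m = 𝟙 A := by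
    show n ≫ j ≫ f.hom ≫ fst A S = _
    rw [← Category.assoc, hn, Category.assoc, Iso.inv_hom_id_assoc, lift_fst]
  haveI : IsIso h := by
    refine ⟨t' ≫ n, ?_, ?_⟩
    · rw [← Category.assoc, show h ≫ t' = m by
        rw [MonObj.comp_mul, hc, Category.comp_id, hh, inv_mul_cancel_right], hmn]
    · rw [Category.assoc, hh, MonObj.comp_mul, GrpObj.comp_inv, hnm, hc, MonObj.comp_mul, GrpObj.comp_inv,
        Category.comp_id, hc, mul_inv_cancel_right]
  refine ⟨g, h, hmon, inferInstance, heq, fun g' h' hm' e => ?_⟩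
  haveI := hm'
  have e0 : g' = g := by
    have := congrArg (o ≫ ·) (e.symm.trans heq)
    simp only [MonObj.comp_mul] at this
    rw [← Category.assoc o (snd A S), ← Category.assoc o (snd A S), ho, Category.id_comp, Category.id_comp,
      ← Category.assoc o (fst A S), ← Category.assoc o (fst A S), lift_fst, Category.assoc, Category.assoc,
      IsMonHom.one_hom, hη, ← Hom.one_def, _root_.mul_one, _root_.mul_one] at this
    exact this
  subst e0
  refine ⟨rfl, ?_⟩
  have := congrArg (j ≫ ·) (mul_left_cancel (e.symm.trans heq))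
  simp only [← Category.assoc, lift_fst, Category.id_comp, j] at this
  exact this

end Groth.Agent.AVAut25
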